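import Mathlib
import Groth.Agent.RatUp.Rational
import Groth.Agent.RatUp.Decide
import Groth.Agent.RatUp.Main

/-!
# Valuation data descend along finite extensions of invertible degree
-/

set_option autoImplicit false
set_option linter.style.haveILetI false
set_option linter.unusedSectionVars false
set_option backward.isDefEq.respectTransparency false
set_option backward.isDefEq.respectTransparency.types false
set_option maxHeartbeats 800000

universe u

open CategoryTheory CategoryTheory.Limits AlgebraicGeometry TopologicalSpace IsLocalRing Filter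
open Groth.Agent.FibrePP (O)
open Groth.Agent.NormSeq (Model Nice locRing)
open Groth.Agent.Sol
open scoped Topology

noncomputable section

namespace Groth.Agent.TraceRat

open Groth.Agent.RatUp

/-- A rational singularity has solvable valuation data. -/
theorem ratVal_of_isRationalSing {R : CommRingCat.{u}} [IsDomain R] (hR : Nice (Spec R))
    (hA : Curv2.IsRationalSing R) : RatVal (algebraMap R (Spec R).functionField).range := by
  classical
  intro n E a hcov hag
  let M₁ : Model (Spec R) := { Z := Spec R, G := 𝟙 _, gen := rfl, bir := inferInstance }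
  obtain ⟨Y, h, hYi, hgen, hbir, hY, hP, hdec⟩ := exists_dec M₁ hR (Finset.univ.biUnion E)
  haveI := hYi
  haveI := hP
  let N := M₁.comp h hgen hbir
  have hNP : IsProper N.G := inferInstanceAs (IsProper (h ≫ 𝟙 _))
  haveI := hNP
  have hsol : Sol (locRing N) := sol_of_isRationalSing hR hA N hNP hY
  have hdec' : ∀ k, ∀ e ∈ E k, Dec N e := fun k e he =>
    hdec e (Finset.mem_biUnion.2 ⟨k, Finset.mem_univ k, he⟩)
  have hrange : ∀ (V : ValuationSubring (Spec R).functionField) (w : N.Z), locRing N w ≤ V.toSubring →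
      (algebraMap R (Spec R).functionField).range ≤ V.toSubring := by
    rintro V w hw _ ⟨r, rfl⟩
    exact hw (RatSing.map_mem_locRing N w r)
  have hex : ∀ w : N.Z, ∃ k, ∀ e ∈ E k, e ∈ locRing N w := fun w => by
    obtain ⟨V, hV⟩ := exists_valuation N w
    obtain ⟨k, hk⟩ := hcov V (hrange V w hV.1)
    exact ⟨k, fun e he => hV.mem (hdec' k e he) (hk e he)⟩
  choose k hk using hex
  obtain ⟨H, hH⟩ := hsol (fun w => a (k w)) fun w => by
    have hev : ∀ᶠ y in 𝓝 w, ∀ e ∈ E (k w), e ∈ locRing N y :=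
      (E (k w)).eventually_all.2 fun e he => openMem_locRing N w e (hk w e he)
    refine hev.mono fun y hy => mem_locRing_of_forall N y (hY.normal y).2 _ fun V hV => ?_
    exact hag V (hrange V y hV) _ _ (fun e he => hV (hy e he)) fun e he => hV (hk y e he)
  refine ⟨H, fun V hV l hl => ?_⟩
  obtain ⟨w, hw⟩ := exists_ctr N V fun r => hV ⟨r, rfl⟩
  have h1 := hag V hV (k w) l (fun e he => hw.1 (hk w e he)) hl
  have h2 := add_mem (hw.1 (hH w)) h1
  rwa [sub_add_sub_cancel] at h2

section Loc

variable {B : Type u} [CommRing B] [IsDomain B] (L : Type u) [Field L] [Algebra B L] [IsFractionRing B L]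

/-- The localization at a prime inside the fraction field. -/
abbrev loc (q : Ideal B) [q.IsPrime] : Subalgebra B L :=
  Localization.subalgebra.ofField L q.primeCompl q.primeCompl_le_nonZeroDivisors

theorem mem_loc {q : Ideal B} [q.IsPrime] {x : L} :
    x ∈ loc L q ↔ ∃ a s : B, s ∉ q ∧ x = algebraMap B L a * (algebraMap B L s)⁻¹ :=
  ⟨fun ⟨a, s, hs, h⟩ => ⟨a, s, hs, h⟩, fun ⟨a, s, hs, h⟩ => ⟨a, s, hs, h⟩⟩

theorem loc_le_valuation {q : Ideal B} [q.IsPrime] {W : ValuationSubring L}
    (hB : ∀ b : B, algebraMap B L b ∈ W) (hq : ∀ s ∉ q, (algebraMap B L s)⁻¹ ∈ W) :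
    (loc L q).toSubring ≤ W.toSubring := fun x hx => by
  obtain ⟨a, s, hs, rfl⟩ := (mem_loc L).1 hx
  exact mul_mem (hB a) (hq s hs)

/-- The centre of a valuation ring containing `B`. -/
theorem exists_centre (W : ValuationSubring L) (hB : ∀ b : B, algebraMap B L b ∈ W) :
    ∃ q : Ideal B, ∃ _ : q.IsPrime, (∀ s ∉ q, (algebraMap B L s)⁻¹ ∈ W) ∧
      ∀ s, (algebraMap B L s)⁻¹ ∈ W → algebraMap B L s ≠ 0 → s ∉ q := by
  let f : B →+* W := (algebraMap B L).codRestrict W.toSubring hB
  refine ⟨(maximalIdeal W).comap f, inferInstance, fun s hs => ?_, fun s hs h0 h => ?_⟩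
  · have hu : IsUnit (f s) := not_not.1 fun h => hs ((IsLocalRing.mem_maximalIdeal _).2 h)
    obtain ⟨v, hv⟩ := hu.exists_right_inv
    rw [show (algebraMap B L s)⁻¹ = v.1 from (eq_inv_of_mul_eq_one_right (congrArg Subtype.val hv)).symm]
    exact v.2
  · refine (IsLocalRing.mem_maximalIdeal _).1 h ?_
    exact IsUnit.of_mul_eq_one (⟨_, hs⟩ : W) (Subtype.ext (mul_inv_cancel₀ h0))

/-- An element of all valuation rings over a normal localization lies in it. -/
theorem mem_loc_of_forall [IsIntegrallyClosed B] (q : Ideal B) [q.IsPrime] (c : L)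
    (h : ∀ W : ValuationSubring L, (loc L q).toSubring ≤ W.toSubring → c ∈ W) : c ∈ loc L q := by
  by_contra hc
  haveI : IsIntegrallyClosed (loc L q) :=
    isIntegrallyClosed_of_isLocalization _ q.primeCompl q.primeCompl_le_nonZeroDivisors
  haveI : IsIntegrallyClosedIn (loc L q).toSubring L :=
    (inferInstance : IsIntegrallyClosedIn (loc L q) L)
  haveI : IsLocalRing (loc L q).toSubring := IsLocalization.AtPrime.isLocalRing (loc L q) q
  obtain ⟨V, hV, hcV⟩ := Subring.exists_le_valuationSubring_of_isIntegrallyClosedIn (R := (loc L q).toSubring) hc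
  exact hcV (h V hV)

/-- Compatible elements at finitely many maximal ideals glue. -/
theorem exists_glue (M : Finset (Ideal B)) (hM : ∀ n ∈ M, n.IsMaximal) (g : Ideal B → L)
    (hg : ∀ n ∈ M, ∀ n' ∈ M, ∀ (q : Ideal B) [q.IsPrime], q ≤ n → q ≤ n' → g n - g n' ∈ loc L q) :
    ∃ H : L, ∀ (n : Ideal B) [n.IsPrime], n ∈ M → H - g n ∈ loc L n := by
  classical
  -- the ideal of multipliers pushing a difference into a localization
  have key : ∀ n ∈ M, ∀ n' ∈ M, ∃ s : B, s ∉ n ∧
      ∃ (a t : B), t ∉ n' ∧ algebraMap B L s * (g n - g n') = algebraMap B L a * (algebraMap B L t)⁻¹ := by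
    intro n hn n' hn'
    haveI := (hM n hn).isPrime
    haveI := (hM n' hn').isPrime
    let C : Ideal B :=
      { carrier := {s | algebraMap B L s * (g n - g n') ∈ loc L n'}
        zero_mem' := by simp only [Set.mem_setOf_eq, map_zero, zero_mul]; exact zero_mem _
        add_mem' := fun {x y} hx hy => by
          simp only [Set.mem_setOf_eq, map_add, add_mul] at hx hy ⊢
          exact add_mem hx hy
        smul_mem' := fun c x hx => by
          simp only [Set.mem_setOf_eq, smul_eq_mul, map_mul, mul_assoc] at hx ⊢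
          exact mul_mem (Subalgebra.algebraMap_mem _ c) hx }
    suffices hC : ¬ C ≤ n by
      obtain ⟨s, hs, hsn⟩ := SetLike.not_le_iff_exists.1 hC
      obtain ⟨a, t, ht, h⟩ := (mem_loc L).1 hs
      exact ⟨s, hsn, a, t, ht, h⟩
    intro hle
    obtain ⟨q, hq, hqn⟩ := Ideal.exists_minimalPrimes_le hle
    haveI : q.IsPrime := hq.1.1
    have hqn' : q ≤ n' := fun x hx => by
      by_contra hxn
      obtain ⟨y, hy, hxy⟩ := Ideal.exists_mul_mem_of_mem_minimalPrimes hq hx
      refine hy ?_
      show algebraMap B L y * (g n - g n') ∈ loc L n'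
      have hx' : (algebraMap B L x)⁻¹ ∈ loc L n' := (mem_loc L).2 ⟨1, x, hxn, by rw [map_one, one_mul]⟩
      have hxy' : algebraMap B L (x * y) * (g n - g n') ∈ loc L n' := hxy
      have h1 := mul_mem hx' hxy'
      rwa [map_mul, ← mul_assoc, ← mul_assoc, inv_mul_cancel₀, one_mul] at h1
      exact fun h0 => hxn (by rw [(IsFractionRing.to_map_eq_zero_iff (R := B)).1 h0]; exact zero_mem _)
    obtain ⟨a, t, ht, h⟩ := (mem_loc L).1 (hg n hn n' hn' q hqn hqn')
    refine ht (hq.1.2 ?_)
    show algebraMap B L t * (g n - g n') ∈ loc L n'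
    rw [h, mul_left_comm, mul_inv_cancel₀, mul_one]
    · exact Subalgebra.algebraMap_mem _ a
    · exact fun h0 => ht (by rw [(IsFractionRing.to_map_eq_zero_iff (R := B)).1 h0]; exact zero_mem _)
  choose s hs a t ht hst using key
  have hsep : ∀ n ∈ M, ∀ n' ∈ M, ∃ e : B, e ∉ n ∧ (n' ≠ n → e ∈ n') := fun n hn n' hn' => by
    by_cases h : n' = n
    · exact ⟨1, (hM n hn).isPrime.one_notMem, fun h' => absurd h h'⟩
    · obtain ⟨e, he, hen⟩ := SetLike.not_le_iff_exists.1 fun hle => h ((hM n' hn').eq_of_le (hM n hn).ne_top hle)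
      exact ⟨e, hen, fun _ => he⟩
  choose e he he' using hsep
  let w : M → B := fun n => ∏ n' : M, s n.1 n.2 n'.1 n'.2 * e n.1 n.2 n'.1 n'.2
  let S : B := ∑ n : M, w n
  have hS : ∀ n : M, S ∉ n.1 := fun n hSn => by
    haveI := (hM n.1 n.2).isPrime
    have hrest : ∀ m : M, m ≠ n → w m ∈ n.1 := fun m hm =>
      Ideal.mem_of_dvd _ (Finset.dvd_prod_of_mem _ (Finset.mem_univ n))
        (Ideal.mul_mem_left _ _ (he' m.1 m.2 n.1 n.2 fun h => hm (Subtype.ext h.symm)))
    have h1 : w n ∈ n.1 := by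
      have : w n = S - ∑ m ∈ Finset.univ.erase n, w m := by
        rw [eq_sub_iff_add_eq]
        exact Finset.add_sum_erase _ w (Finset.mem_univ n)
      rw [this]
      exact sub_mem hSn (Ideal.sum_mem _ fun m hm => hrest m (Finset.mem_erase.1 hm).1)
    obtain ⟨m, -, hm⟩ := (Ideal.IsPrime.prod_mem_iff (p := n.1)).1 h1
    rcases Ideal.IsPrime.mem_or_mem inferInstance hm with h | h
    · exact hs n.1 n.2 m.1 m.2 h
    · exact he n.1 n.2 m.1 m.2 h
  refine ⟨(∑ n : M, algebraMap B L (w n) * g n.1) * (algebraMap B L S)⁻¹, fun n' _ hn' => ?_⟩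
  have hS0 : algebraMap B L S ≠ 0 := fun h0 => hS ⟨n', hn'⟩ (by
    rw [(IsFractionRing.to_map_eq_zero_iff (R := B)).1 h0]; exact zero_mem _)
  have hdiff : (∑ n : M, algebraMap B L (w n) * g n.1) * (algebraMap B L S)⁻¹ - g n' =
      (∑ n : M, algebraMap B L (w n) * (g n.1 - g n')) * (algebraMap B L S)⁻¹ := by
    simp only [mul_sub, Finset.sum_sub_distrib, sub_mul, ← Finset.sum_mul]
    rw [show (∑ n : M, algebraMap B L (w n)) = algebraMap B L S from (map_sum _ _ _).symm]
    field_simp
  rw [hdiff]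
  refine mul_mem (Subalgebra.sum_mem _ fun n _ => ?_) ((mem_loc L).2 ⟨1, S, hS ⟨n', hn'⟩, by rw [map_one, one_mul]⟩)
  obtain ⟨c, hc⟩ : s n.1 n.2 n' hn' ∣ w n :=
    (dvd_mul_right _ _).trans (Finset.dvd_prod_of_mem _ (Finset.mem_univ (⟨n', hn'⟩ : M)))
  rw [hc, map_mul, mul_right_comm, hst]
  exact mul_mem ((mem_loc L).2 ⟨_, _, ht _ _ _ _, rfl⟩) (Subalgebra.algebraMap_mem _ c)

end Loc

variable {A B : Type u} [CommRing A] [CommRing B] [IsDomain A] [IsDomain B] [Algebra A B] [Algebra.IsIntegral A B]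
  [IsIntegrallyClosed B] (K L : Type u) [Field K] [Field L] [Algebra A K] [IsFractionRing A K] [Algebra B L]
  [IsFractionRing B L] [Algebra K L] [Algebra A L] [IsScalarTower A K L] [IsScalarTower A B L]
  [FiniteDimensional K L]

/-- Valuation data upstairs solve the multiples by the degree downstairs. -/
theorem exists_trace_value (m : Ideal A) [m.IsMaximal] (M : Finset (Ideal B))
    (hM : ∀ n : Ideal B, n ∈ M ↔ n.IsMaximal ∧ n.comap (algebraMap A B) = m)
    (hrat : ∀ (n : Ideal B) [n.IsPrime], n ∈ M → RatVal (loc L n).toSubring)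
    {N : ℕ} (E : Fin N → Finset K) (a : Fin N → K)
    (hcov : ∀ V : ValuationSubring K, (loc K m).toSubring ≤ V.toSubring → ∃ k, ∀ e ∈ E k, e ∈ V)
    (hag : ∀ V : ValuationSubring K, (loc K m).toSubring ≤ V.toSubring → ∀ k l,
      (∀ e ∈ E k, e ∈ V) → (∀ e ∈ E l, e ∈ V) → a k - a l ∈ V) :
    ∃ h, ∀ V : ValuationSubring K, (loc K m).toSubring ≤ V.toSubring → ∀ k, (∀ e ∈ E k, e ∈ V) →
      h - (Module.finrank K L : K) * a k ∈ V := by
  classical
  have hfield : ∀ {W : ValuationSubring L}, (∀ x ∈ loc K m, algebraMap K L x ∈ W) →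
      (loc K m).toSubring ≤ (W.comap (algebraMap K L)).toSubring := fun h x hx => h x hx
  have hup : ∀ n : Ideal B, ∀ [n.IsPrime], n ∈ M → ∀ W : ValuationSubring L,
      (loc L n).toSubring ≤ W.toSubring → (loc K m).toSubring ≤ (W.comap (algebraMap K L)).toSubring := by
    intro n _ hn W hW
    refine hfield fun x hx => ?_
    obtain ⟨p, q, hq, rfl⟩ := (mem_loc K).1 hx
    refine hW ((mem_loc L).2 ⟨algebraMap A B p, algebraMap A B q, fun h => hq ?_, ?_⟩)
    · rw [← ((hM n).1 hn).2]; exact h
    · rw [map_mul, map_inv₀, ← IsScalarTower.algebraMap_apply A K L, ← IsScalarTower.algebraMap_apply A K L,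
        ← IsScalarTower.algebraMap_apply A B L, ← IsScalarTower.algebraMap_apply A B L]
  let E' : Fin N → Finset L := fun k => (E k).image (algebraMap K L)
  have hE : ∀ (W : ValuationSubring L) k, (∀ e ∈ E' k, e ∈ W) ↔ ∀ e ∈ E k, e ∈ W.comap (algebraMap K L) :=
    fun W k => Finset.forall_mem_image
  have hloc : ∀ n : Ideal B, ∃ h : L, ∀ [n.IsPrime], n ∈ M → ∀ W : ValuationSubring L,
      (loc L n).toSubring ≤ W.toSubring → ∀ k, (∀ e ∈ E' k, e ∈ W) → h - algebraMap K L (a k) ∈ W := by
    intro n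
    by_cases hn : n ∈ M
    swap
    · exact ⟨0, fun h => absurd h hn⟩
    haveI := ((hM n).1 hn).1.isPrime
    obtain ⟨h, hh⟩ := hrat n hn N E' (fun k => algebraMap K L (a k)) (fun W hW => by
        obtain ⟨k, hk⟩ := hcov _ (hup n hn W hW)
        exact ⟨k, (hE W k).2 hk⟩) fun W hW k l hk hl => by
      rw [← map_sub]
      exact hag _ (hup n hn W hW) k l ((hE W k).1 hk) ((hE W l).1 hl)
    exact ⟨h, fun _ => hh⟩
  choose g hg using hloc
  obtain ⟨H, hH⟩ := exists_glue L M (fun n hn => ((hM n).1 hn).1) g fun n hn n' hn' q _ hqn hqn' => by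
    haveI := ((hM n).1 hn).1.isPrime
    haveI := ((hM n').1 hn').1.isPrime
    refine mem_loc_of_forall L q _ fun W hW => ?_
    have hle : ∀ p : Ideal B, ∀ [p.IsPrime], q ≤ p → (loc L p).toSubring ≤ W.toSubring := fun p _ hp x hx => by
      obtain ⟨b, s, hs, rfl⟩ := (mem_loc L).1 hx
      exact hW ((mem_loc L).2 ⟨b, s, fun h => hs (hp h), rfl⟩)
    obtain ⟨k, hk⟩ := hcov _ (hup n hn W (hle n hqn))
    have h1 := sub_mem (hg n hn W (hle n hqn) k ((hE W k).2 hk)) (hg n' hn' W (hle n' hqn') k ((hE W k).2 hk))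
    rwa [sub_sub_sub_cancel_right] at h1
  refine ⟨Algebra.trace K L H, fun V hV k hk => ?_⟩
  letI : Algebra V L := ((algebraMap K L).comp V.subtype).toAlgebra
  haveI : IsScalarTower V K L := IsScalarTower.of_algebraMap_eq fun _ => rfl
  have hint : IsIntegral V (H - algebraMap K L (a k)) := by
    have hmem : H - algebraMap K L (a k) ∈
        (⨅ W : {W : ValuationSubring L // Set.range (algebraMap V L) ⊆ W.toSubring}, W.1.toSubring) := by
      refine (Subring.mem_iInf).2 fun ⟨W, hW⟩ => ?_
      have hVW : ∀ x ∈ V, algebraMap K L x ∈ W := fun x hx => hW ⟨⟨x, hx⟩, rfl⟩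
      have hA : ∀ p : A, algebraMap A L p ∈ W := fun p => by
        rw [IsScalarTower.algebraMap_apply A K L]
        exact hVW _ (hV (Subalgebra.algebraMap_mem _ p))
      have hB : ∀ b : B, algebraMap B L b ∈ W := fun b => by
        letI : Algebra A W := ((algebraMap A L).codRestrict W.toSubring hA).toAlgebra
        haveI : IsScalarTower A W L := IsScalarTower.of_algebraMap_eq fun _ => rfl
        obtain ⟨y, hy⟩ := IsIntegrallyClosed.algebraMap_eq_of_integral (R := W) (K := L)
          (((Algebra.IsIntegral.isIntegral (R := A) b).map (IsScalarTower.toAlgHom A B L)).tower_top (A := W))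
        exact hy ▸ y.2
      obtain ⟨q, hq, hq1, hq2⟩ := exists_centre L W hB
      haveI := hq
      obtain ⟨n, hn, hqn⟩ := q.exists_le_maximal hq.ne_top
      -- the centre lies below a maximal ideal over `m`
      have hqA : q.comap (algebraMap A B) ≤ m := fun p hp => by
        by_contra hpm
        have hp0 : algebraMap A K p ≠ 0 := fun h0 => hpm (by
          rw [(IsFractionRing.to_map_eq_zero_iff (R := A)).1 h0]; exact zero_mem _)
        have h1 : (algebraMap A L p)⁻¹ ∈ W := by
          rw [IsScalarTower.algebraMap_apply A K L, ← map_inv₀]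
          exact hVW _ (hV ((mem_loc K).2 ⟨1, p, hpm, by rw [map_one, one_mul]⟩))
        rw [IsScalarTower.algebraMap_apply A B L] at h1
        refine hq2 _ h1 ?_ hp
        rw [← IsScalarTower.algebraMap_apply A B L, IsScalarTower.algebraMap_apply A K L]
        exact fun h0 => hp0 ((algebraMap K L).injective (h0.trans (map_zero _).symm))
      obtain ⟨n', hqn', hn'p, hn'm⟩ := Ideal.exists_ideal_over_prime_of_isIntegral m q hqA
      haveI := hn'p
      have hn'M : n' ∈ M := (hM n').2 ⟨Ideal.isMaximal_of_isIntegral_of_isMaximal_comap n' (hn'm ▸ ‹m.IsMaximal›), hn'm⟩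
      have hle : (loc L n').toSubring ≤ W.toSubring :=
        loc_le_valuation L hB fun s hs => hq1 s fun h => hs (hqn' h)
      have h1 := add_mem (hle (hH n' hn'M)) (hg n' hn'M W hle k ((hE W k).2 fun e he => hVW e (hk e he)))
      rwa [sub_add_sub_cancel] at h1
    rw [Subring.mem_iInf] at hmem
    have h2 : H - algebraMap K L (a k) ∈
        (⨅ W : {W : ValuationSubring L // Set.range (algebraMap V L) ⊆ W.toSubring}, W.1.toSubring) :=
      (Subring.mem_iInf).2 hmem
    rw [iInf_valuationSubring_superset] at h2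
    have hcl : Subring.closure (Set.range (algebraMap V L)) = (algebraMap V L).range := by
      rw [← RingHom.coe_range, Subring.closure_eq]
    obtain ⟨P, hP, hP0⟩ := (h2 : IsIntegral (Subring.closure (Set.range (algebraMap V L))) _)
    have h3 : (algebraMap V L).range.subtype.comp ((algebraMap V L).rangeRestrict) = algebraMap V L := rfl
    have hlift : P.map (Subring.closure (Set.range (algebraMap V L))).subtype ∈ Polynomial.lifts (algebraMap V L) := by
      rw [Polynomial.lifts_iff_coeff_lifts]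
      intro i
      rw [Polynomial.coeff_map]
      exact (SetLike.ext_iff.1 hcl _).1 (P.coeff i).2
    obtain ⟨Q, hQ, -, hQm⟩ := Polynomial.lifts_and_degree_eq_and_monic hlift (hP.map _)
    refine ⟨Q, hQm, ?_⟩
    rw [← Polynomial.eval_map, hQ, Polynomial.eval_map]
    exact hP0
  have htr := Algebra.isIntegral_trace (R := V) (L := K) hint
  obtain ⟨y, hy⟩ := IsIntegrallyClosed.algebraMap_eq_of_integral (R := V) (K := K) htr
  rw [map_sub, Algebra.trace_algebraMap, nsmul_eq_mul] at hy
  rw [← hy]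
  exact y.2

/-- Valuation data descend along an extension of invertible degree. -/
theorem ratVal_descend (m : Ideal A) [m.IsMaximal] (M : Finset (Ideal B))
    (hM : ∀ n : Ideal B, n ∈ M ↔ n.IsMaximal ∧ n.comap (algebraMap A B) = m)
    (hdeg : ((Module.finrank K L : ℕ) : A) ∉ m)
    (hrat : ∀ (n : Ideal B) [n.IsPrime], n ∈ M → RatVal (loc L n).toSubring) : RatVal (loc K m).toSubring := by
  intro N E a hcov hag
  obtain ⟨H, hH⟩ := exists_trace_value K L m M hM hrat E a hcov hag
  have hd : algebraMap A K ((Module.finrank K L : ℕ) : A) ≠ 0 := fun h0 => hdeg (by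
    rw [(IsFractionRing.to_map_eq_zero_iff (R := A)).1 h0]
    exact zero_mem _)
  rw [map_natCast] at hd
  refine ⟨(Module.finrank K L : K)⁻¹ * H, fun V hV k hk => ?_⟩
  have h1 : ((Module.finrank K L : K))⁻¹ ∈ V :=
    hV ((mem_loc K).2 ⟨1, _, hdeg, by rw [map_one, one_mul, map_natCast]⟩)
  have h2 := mul_mem h1 (hH V hV k hk)
  rwa [mul_sub, ← mul_assoc, inv_mul_cancel₀ hd, one_mul] at h2

end Groth.Agent.TraceRat
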