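import Mathlib
import Groth.Agent.TraceRat.Val
import Groth.Agent.S2654
import Groth.Agent.NagataLib.Localization
import Groth.Agent.VarDim.Basic
import Groth.Agent.NormSeq.FinBir
import Groth.Agent.NormSeq.FinScheme
import Groth.Prelude.Def_EGA4b

/-!
# Rational singularities descend along finite extensions of invertible degree
-/

set_option autoImplicit false
set_option linter.style.haveILetI false
set_option linter.unusedSectionVars false
set_option backward.isDefEq.respectTransparency false
set_option backward.isDefEq.respectTransparency.types false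
set_option maxHeartbeats 800000

universe u

open CategoryTheory CategoryTheory.Limits AlgebraicGeometry TopologicalSpace IsLocalRing
open Groth.Agent.NormSeq (Nice FinBir)

noncomputable section

namespace Groth.Agent.TraceRat

open Groth.Agent.RatUp

variable {A : Type u} [CommRing A] [IsDomain A] [IsNoetherianRing A] [IsIntegrallyClosed A]
  (K : Type u) [Field K] [Algebra A K] [IsFractionRing A K]

/-- Transfer between the localization inside the fraction field and its spectrum. -/
theorem loc_transfer (m : Ideal A) [m.IsPrime] {R : CommRingCat.{u}} [IsDomain R] (f : R ≃+* loc K m) :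
    ∃ e : (Spec R).functionField ≃+* K,
      ∀ c, c ∈ (algebraMap R (Spec R).functionField).range ↔ e c ∈ (loc K m).toSubring := by
  let e : (Spec R).functionField ≃+* K := IsFractionRing.ringEquivOfRingEquiv f
  have he : ∀ r : R, e (algebraMap R (Spec R).functionField r) = ((f r : loc K m) : K) := fun r =>
    IsFractionRing.ringEquivOfRingEquiv_algebraMap f r
  refine ⟨e, fun c => ⟨?_, fun h => ⟨f.symm ⟨e c, h⟩, ?_⟩⟩⟩
  · rintro ⟨r, rfl⟩
    rw [he]
    exact (f r).2
  · exact e.injective (by rw [he, RingEquiv.apply_symm_apply])

theorem ratVal_aux (m : Ideal A) [m.IsPrime] {R : CommRingCat.{u}} [IsDomain R] (f : R ≃+* loc K m)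
    (hR : Nice (Spec R)) (hA : Curv2.IsRationalSing R) : RatVal (loc K m).toSubring := by
  obtain ⟨e, he⟩ := loc_transfer K m f
  exact (ratVal_of_isRationalSing hR hA).map e he

theorem isRationalSing_aux (m : Ideal A) [m.IsPrime] {R : CommRingCat.{u}} [IsDomain R] (f : R ≃+* loc K m)
    (h : RatVal (loc K m).toSubring) : Curv2.IsRationalSing R := by
  obtain ⟨e, he⟩ := loc_transfer K m f
  refine isRationalSing_of_ratVal ?_
  exact h.map e.symm fun c => by
    have h' := he (e.symm c)
    rw [RingEquiv.apply_symm_apply] at h'
    exact h'.symm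

theorem dim_loc (m : Ideal A) [m.IsPrime] : ringKrullDim (loc K m) = m.height :=
  IsLocalization.AtPrime.ringKrullDim_eq_height m _

/-- The valuation form of rationality at a prime of height two. -/
theorem ratVal_loc (hN : CAlg.IsNagata A) (m : Ideal A) [m.IsPrime] (hm : m.height = 2)
    (h : Curv2.IsRationalSing (Localization.AtPrime m)) : RatVal (loc K m).toSubring := by
  let R := CommRingCat.of (loc K m)
  haveI : IsDomain R := inferInstanceAs (IsDomain (loc K m))
  haveI : IsNoetherianRing R := IsLocalization.isNoetherianRing m.primeCompl (loc K m) inferInstance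
  haveI : IsIntegrallyClosed R :=
    isIntegrallyClosed_of_isLocalization (loc K m) m.primeCompl m.primeCompl_le_nonZeroDivisors
  have hR : Nice (Spec R) := NormSeq.nice_of_finBir
    (NormSeq.finBir_of_isNagata (NagataLib.isNagata_of_isLocalization hN m.primeCompl (loc K m)))
    (by rw [show ringKrullDim R = ringKrullDim (loc K m) from rfl, dim_loc, hm]; rfl)
  have hA : Curv2.IsRationalSing R := RatUp.isRationalSing_of_ringEquiv
    (IsLocalization.algEquiv m.primeCompl (Localization.AtPrime m) (loc K m)).toRingEquiv h
  exact ratVal_aux K m (RingEquiv.refl _) hR hA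

/-- Rationality from its valuation form. -/
theorem isRationalSing_loc (m : Ideal A) [m.IsPrime] (h : RatVal (loc K m).toSubring) :
    Curv2.IsRationalSing (Localization.AtPrime m) := by
  let R := CommRingCat.of (loc K m)
  haveI : IsDomain R := inferInstanceAs (IsDomain (loc K m))
  exact RatUp.isRationalSing_of_ringEquiv
    (IsLocalization.algEquiv m.primeCompl (loc K m) (Localization.AtPrime m)).toRingEquiv
    (A := (R : Type u)) (isRationalSing_aux K m (R := R) (RingEquiv.refl _) h)

variable {B : Type u} [CommRing B] [IsDomain B] [IsNoetherianRing B] [IsIntegrallyClosed B] [Algebra A B]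
  [Module.Finite A B] (L : Type u) [Field L] [Algebra B L] [IsFractionRing B L] [Algebra K L] [Algebra A L]
  [IsScalarTower A K L] [IsScalarTower A B L] [FiniteDimensional K L]

/-- A finite extension of invertible degree with rational singularities has a rational base. -/
theorem isRationalSing_descend (hinj : Function.Injective (algebraMap A B)) (hNB : CAlg.IsNagata B)
    (hB2 : ringKrullDim B = 2) (m : Ideal A) [m.IsMaximal] (hm : m.height = 2)
    (hdeg : ((Module.finrank K L : ℕ) : A) ∉ m)
    (hB : ∀ (n : Ideal B) [n.IsMaximal], ringKrullDim (Localization.AtPrime n) = 2 →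
      Curv2.IsRationalSing (Localization.AtPrime n)) :
    Curv2.IsRationalSing (Localization.AtPrime m) := by
  classical
  haveI : FaithfulSMul A B := (faithfulSMul_iff_algebraMap_injective A B).2 hinj
  haveI : Algebra.IsIntegral A B := Algebra.IsIntegral.of_finite A B
  haveI : Algebra.HasGoingDown A B := inferInstance
  have hfin : {n : Ideal B | n.IsMaximal ∧ n.comap (algebraMap A B) = m}.Finite :=
    (Algebra.QuasiFinite.finite_primesOver (S := B) m).subset fun n hn => ⟨hn.1.isPrime, ⟨hn.2.symm⟩⟩
  refine isRationalSing_loc K m (ratVal_descend K L m hfin.toFinset (fun n => hfin.mem_toFinset) hdeg ?_)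
  intro n _ hn
  obtain ⟨hnmax, hnm⟩ := hfin.mem_toFinset.1 hn
  haveI := hnmax
  have hn2 : n.height = 2 := by
    refine le_antisymm ?_ ?_
    · have h1 := Ideal.height_le_ringKrullDim_of_ne_top hnmax.ne_top
      rw [hB2] at h1
      exact WithBot.coe_le_coe.1 h1
    · rw [← hm, show m.height = Order.height (⟨m, inferInstance⟩ : PrimeSpectrum A) from PrimeSpectrum.height_eq_orderHeight ⟨m, inferInstance⟩,
        show n.height = Order.height (⟨n, inferInstance⟩ : PrimeSpectrum B) from PrimeSpectrum.height_eq_orderHeight ⟨n, inferInstance⟩]
      refine le_of_eq ?_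
      have h1 := VarDim.height_comap (R := A) (S := B) ⟨n, inferInstance⟩
      rw [show PrimeSpectrum.comap (algebraMap A B) ⟨n, inferInstance⟩ = (⟨m, inferInstance⟩ : PrimeSpectrum A) from
        PrimeSpectrum.ext hnm] at h1
      exact h1
  refine ratVal_loc L hNB n hn2 (hB n ?_)
  rw [IsLocalization.AtPrime.ringKrullDim_eq_height n, hn2]
  rfl

end Groth.Agent.TraceRat
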