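import Mathlib
import Groth.Agent.TraceRat.Main
import Groth.Agent.Sol.Smul

/-!
# The degree kills the first cohomology of a modification
-/

set_option autoImplicit false
set_option linter.style.haveILetI false
set_option linter.unusedSectionVars false
set_option backward.isDefEq.respectTransparency false
set_option backward.isDefEq.respectTransparency.types false
set_option maxHeartbeats 800000

universe u

open CategoryTheory CategoryTheory.Limits AlgebraicGeometry TopologicalSpace IsLocalRing Filter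
open scoped Topology
open Groth.Agent.FibrePP (O)
open Groth.Agent.NormSeq (Model Nice locRing)
open Groth.Agent.Sol

noncomputable section

namespace Groth.Agent.TraceRat

open Groth.Agent.RatUp

/-- Multiples of compatible values on valuation pieces have a common value. -/
def SolMul {K : Type u} [Field K] (B : Subring K) (d : ℕ) : Prop :=
  ∀ (n : ℕ) (E : Fin n → Finset K) (a : Fin n → K),
    (∀ V : ValuationSubring K, B ≤ V.toSubring → ∃ k, ∀ e ∈ E k, e ∈ V) →
    (∀ V : ValuationSubring K, B ≤ V.toSubring → ∀ k l, (∀ e ∈ E k, e ∈ V) → (∀ e ∈ E l, e ∈ V) → a k - a l ∈ V) →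
    ∃ h, ∀ V : ValuationSubring K, B ≤ V.toSubring → ∀ k, (∀ e ∈ E k, e ∈ V) → h - (d : K) * a k ∈ V

/-- A valuation ring has solvable valuation data. -/
theorem ratVal_of_total {K : Type u} [Field K] (B : Subring K) (h : ∀ x : K, x ∈ B ∨ x⁻¹ ∈ B) : RatVal B := by
  intro n E a hcov hag
  let V₀ : ValuationSubring K := { B with mem_or_inv_mem' := h }
  obtain ⟨k₀, hk₀⟩ := hcov V₀ le_rfl
  exact ⟨a k₀, fun V hV k hk => hag V hV k₀ k (fun e he => hV (hk₀ e he)) hk⟩

/-- A normal localization of height at most one is a valuation ring. -/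
theorem loc_total {B : Type u} [CommRing B] [IsDomain B] [IsNoetherianRing B] [IsIntegrallyClosed B] (L : Type u)
    [Field L] [Algebra B L] [IsFractionRing B L] (q : Ideal B) [q.IsPrime] (h : q.height ≤ 1) (x : L) :
    x ∈ (loc L q).toSubring ∨ x⁻¹ ∈ (loc L q).toSubring := by
  haveI : IsLocalRing (loc L q) := IsLocalization.AtPrime.isLocalRing (loc L q) q
  haveI : IsNoetherianRing (loc L q) := IsLocalization.isNoetherianRing q.primeCompl (loc L q) inferInstance
  haveI : IsIntegrallyClosed (loc L q) :=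
    isIntegrallyClosed_of_isLocalization (loc L q) q.primeCompl q.primeCompl_le_nonZeroDivisors
  have h1 : ringKrullDim (loc L q) ≤ 1 := by rw [dim_loc L q]; exact WithBot.coe_le_coe.2 h
  haveI : Ring.KrullDimLE 1 (loc L q) := Ring.krullDimLE_iff.mpr h1
  haveI : Ring.DimensionLEOne (loc L q) :=
    ⟨fun {p} hp0 hp => Ring.krullDimLE_one_iff_of_noZeroDivisors.mp inferInstance p hp0 hp⟩
  have hD : IsDedekindDomain (loc L q) := {}
  haveI hv : ValuationRing (loc L q) :=
    ((tfae_of_isNoetherianRing_of_isLocalRing_of_isDomain (loc L q)).out 2 1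
      (a := IsDedekindDomain (loc L q)) (b := ValuationRing (loc L q)) rfl rfl).mp hD
  rcases ValuationRing.isInteger_or_isInteger (loc L q) x with ⟨y, hy⟩ | ⟨y, hy⟩
  · exact Or.inl (hy ▸ y.2)
  · exact Or.inr (hy ▸ y.2)

/-- A finite extension with rational singularities solves the multiples by the degree. -/
theorem solMul_descend {A B : Type u} [CommRing A] [CommRing B] [IsDomain A] [IsDomain B] [IsNoetherianRing B]
    [IsIntegrallyClosed B] [Algebra A B] [Module.Finite A B] (K L : Type u) [Field K] [Field L] [Algebra A K]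
    [IsFractionRing A K] [Algebra B L] [IsFractionRing B L] [Algebra K L] [Algebra A L] [IsScalarTower A K L]
    [IsScalarTower A B L] [FiniteDimensional K L] (hNB : CAlg.IsNagata B) (hB2 : ringKrullDim B = 2)
    (hB : ∀ (n : Ideal B) [n.IsMaximal], ringKrullDim (Localization.AtPrime n) = 2 →
      Curv2.IsRationalSing (Localization.AtPrime n))
    (m : Ideal A) [m.IsMaximal] : SolMul (loc K m).toSubring (Module.finrank K L) := by
  classical
  haveI : Algebra.IsIntegral A B := Algebra.IsIntegral.of_finite A B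
  have hfin : {n : Ideal B | n.IsMaximal ∧ n.comap (algebraMap A B) = m}.Finite :=
    (Algebra.QuasiFinite.finite_primesOver (S := B) m).subset fun n hn => ⟨hn.1.isPrime, ⟨hn.2.symm⟩⟩
  intro N E a hcov hag
  refine exists_trace_value K L m hfin.toFinset (fun n => hfin.mem_toFinset) (fun n _ hn => ?_) E a hcov hag
  haveI := (hfin.mem_toFinset.1 hn).1
  rcases le_or_gt n.height 1 with h1 | h1
  · exact ratVal_of_total _ (loc_total L n h1)
  · have h2 : n.height = 2 := by
      refine le_antisymm ?_ ?_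
      · have h3 := Ideal.height_le_ringKrullDim_of_ne_top (‹n.IsMaximal›).ne_top
        rw [hB2] at h3
        exact WithBot.coe_le_coe.1 h3
      · rw [← one_add_one_eq_two]
        exact Order.add_one_le_of_lt h1
    refine ratVal_loc L hNB n h2 (hB n ?_)
    rw [IsLocalization.AtPrime.ringKrullDim_eq_height n, h2]
    rfl

variable {R : CommRingCat.{u}} [IsDomain R]

local notation "KK" => Scheme.functionField (Spec R)
local notation "ι" => algebraMap R (Scheme.functionField (Spec R))

theorem inv_mem_O (z : Spec R) {s : R} (hs : s ∉ z.asIdeal) : (ι s)⁻¹ ∈ O z := by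
  have hu : IsUnit ((Spec R).presheaf.germ ⊤ z trivial ((Scheme.ΓSpecIso R).inv s)) := by
    rw [← (Spec R).mem_basicOpen ((Scheme.ΓSpecIso R).inv s) z trivial, basicOpen_eq_of_affine]
    exact hs
  obtain ⟨v, hv⟩ := hu.exists_right_inv
  refine ⟨v, eq_inv_of_mul_eq_one_right ?_⟩
  have h : ι s = algebraMap ((Spec R).presheaf.stalk z) (Spec R).functionField
      ((Spec R).presheaf.germ ⊤ z trivial ((Scheme.ΓSpecIso R).inv s)) := toFF_eq ⊤ trivial _
  rw [h, ← map_mul, hv, map_one]

/-- Local solutions at the maximal ideals give solutions of multiples on a normal proper model. -/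
theorem exists_value_model [IsIntegrallyClosed R] (N : Model (Spec R)) [IsProper N.G]
    (hNn : ∀ y : N.Z, IsIntegrallyClosed (N.Z.presheaf.stalk y)) (d : ℕ)
    (hloc : ∀ m : Ideal R, ∀ [m.IsMaximal], SolMul (loc KK m).toSubring d)
    (g : N.Z → KK) (hg : IsDatum (locRing N) g) : ∃ h, ∀ y, h - (d : KK) * g y ∈ locRing N y := by
  classical
  haveI : IsSeparated N.G := inferInstance
  haveI : CompactSpace N.Z := QuasiCompact.compactSpace_of_compactSpace N.G
  have hcov0 : ∀ y : N.Z, ∃ U : N.Z.Opens, IsAffineOpen U ∧ y ∈ U ∧ ∀ y' ∈ U, g y - g y' ∈ locRing N y' := fun y => by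
    obtain ⟨W, hW, hWo, hyW⟩ := eventually_nhds_iff.1 (hg y)
    obtain ⟨U, hU, hyU, hle⟩ := exists_isAffineOpen_mem_and_subset (x := y) (U := ⟨W, hWo⟩) hyW
    exact ⟨U, hU, hyU, fun y' hy' => hW y' (hle hy')⟩
  choose U hU hyU hgood using hcov0
  obtain ⟨t, ht⟩ := isCompact_univ.elim_finite_subcover (fun y => (U y : Set N.Z)) (fun y => (U y).isOpen)
    fun y _ => Set.mem_iUnion.2 ⟨y, hyU y⟩
  have hgenU : ∀ y, genericPoint N.Z ∈ U y := fun y => generic_mem N (hyU y)
  have hev : ∀ y r, ev N (hgenU y) (BlowUpLib.strHom (A := R) N.G (U y) r) = ι r := fun y r => by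
    show N.toKHom _ (N.Z.presheaf.germ (U y) _ (hgenU y) _) = _
    rw [RatSing.germ_strHom N (hgenU y), RatSing.toK_strStalk]
  have hft : ∀ y, ∃ s : Finset Γ(N.Z, U y),
      ∀ V : ValuationSubring KK, (algebraMap R KK).range ≤ V.toSubring →
        (∀ e ∈ s, ev N (hgenU y) e ∈ V) → ∀ e, ev N (hgenU y) e ∈ V := fun y => by
    have hfin : (BlowUpLib.strHom (A := R) N.G (U y)).FiniteType := by
      refine RingHom.FiniteType.comp (f := (Scheme.ΓSpecIso R).inv.hom)
        (N.G.finiteType_appLE (isAffineOpen_top _) (hU y) le_top) ?_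
      exact RingHom.FiniteType.of_surjective _ (ConcreteCategory.bijective_of_isIso (Scheme.ΓSpecIso R).inv).2
    letI := (BlowUpLib.strHom (A := R) N.G (U y)).toAlgebra
    haveI : Algebra.FiniteType R Γ(N.Z, U y) := hfin
    obtain ⟨s, hs⟩ := (Algebra.FiniteType.out : (⊤ : Subalgebra R Γ(N.Z, U y)).FG)
    refine ⟨s, fun V hV he e => ?_⟩
    have hmem : e ∈ Algebra.adjoin R (s : Set Γ(N.Z, U y)) := by rw [hs]; trivial
    induction hmem using Algebra.adjoin_induction with
    | mem x hx => exact he x hx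
    | algebraMap r => exact hV ⟨r, (hev y r).symm⟩
    | add x x' _ _ hx hx' => rw [map_add]; exact add_mem hx hx'
    | mul x x' _ _ hx hx' => rw [map_mul]; exact mul_mem hx hx'
  choose s hs using hft
  let p : Fin t.card → N.Z := fun k => (t.equivFin.symm k).1
  let E : Fin t.card → Finset KK := fun k => (s (p k)).image (ev N (hgenU (p k)))
  have hEmem : ∀ V : ValuationSubring KK, (algebraMap R KK).range ≤ V.toSubring → ∀ k,
      (∀ e ∈ E k, e ∈ V) → ∃ y ∈ U (p k), Ctr N V y := fun V hV k hk => by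
    have hall := hs (p k) V hV fun e he => hk _ (Finset.mem_image_of_mem _ he)
    let i : Γ(N.Z, U (p k)) ⟶ CommRingCat.of V :=
      CommRingCat.ofHom ((ev N (hgenU (p k))).codRestrict V.toSubring hall)
    refine ⟨_, ?_, ctr_of_lift N V (Spec.map i ≫ (hU (p k)).fromSpec) ?_⟩
    · show _ ∈ (U (p k) : Set N.Z)
      rw [← (hU (p k)).range_fromSpec]
      exact ⟨_, rfl⟩
    · have hi : i ≫ CommRingCat.ofHom V.subtype =
          N.Z.presheaf.germ (U (p k)) _ (hgenU (p k)) ≫ N.toKHom (genericPoint N.Z) := rfl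
      rw [← Spec.map_comp_assoc, hi, Spec.map_comp, Category.assoc, ← N.spec_toK (genericPoint N.Z)]
      congr 1
      exact (hU (p k)).fromSpecStalk_eq_fromSpecStalk (hgenU (p k))
  have hcover : ∀ y, ∃ k, y ∈ U (p k) := fun y => by
    obtain ⟨y', hy', hy''⟩ := Set.mem_iUnion₂.1 (ht (Set.mem_univ y))
    exact ⟨t.equivFin ⟨y', hy'⟩, by simp only [p, Equiv.symm_apply_apply]; exact hy''⟩
  have hEO : ∀ y k, y ∈ U (p k) → ∀ e ∈ E k, e ∈ locRing N y := fun y k hy e he => by
    obtain ⟨x, -, rfl⟩ := Finset.mem_image.1 he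
    exact ev_mem N (hgenU (p k)) hy x
  -- solutions over the maximal ideals
  have hsol : ∀ x : Spec R, ∃ h : KK, ∀ z : Spec R, z.asIdeal ≤ x.asIdeal → ∀ y, N.G y = z →
      h - (d : KK) * g y ∈ locRing N y := by
    intro x
    obtain ⟨m, hm, hxm⟩ := x.asIdeal.exists_le_maximal x.isPrime.ne_top
    haveI := hm
    have hbase : ∀ V : ValuationSubring KK, (loc KK m).toSubring ≤ V.toSubring →
        (algebraMap R KK).range ≤ V.toSubring := by
      rintro V hV _ ⟨r, rfl⟩
      exact hV (Subalgebra.algebraMap_mem _ r)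
    obtain ⟨h, hh⟩ := hloc m t.card E (fun k => g (p k)) (fun V hV => by
        obtain ⟨y, hy⟩ := exists_ctr N V fun r => hbase V hV ⟨r, rfl⟩
        obtain ⟨k, hk⟩ := hcover y
        exact ⟨k, fun e he => hy.1 (hEO y k hk e he)⟩) fun V hV k l hk hl => by
        obtain ⟨y, hy, hyc⟩ := hEmem V (hbase V hV) k hk
        obtain ⟨y', hy', hyc'⟩ := hEmem V (hbase V hV) l hl
        obtain rfl := Ctr.unique N hyc hyc'
        have h1 := sub_mem (hgood _ y hy) (hgood _ y hy')
        rw [sub_sub_sub_cancel_right] at h1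
        exact hyc.1 h1
    refine ⟨h, fun z hz y hy => mem_locRing_of_forall N y (hNn y) _ fun V hV => ?_⟩
    obtain ⟨k, hk⟩ := hcover y
    have hmV : (loc KK m).toSubring ≤ V.toSubring := by
      intro c hc
      obtain ⟨a, b, hb, rfl⟩ := (mem_loc KK).1 hc
      refine hV (mul_mem (RatSing.map_mem_locRing N y a) (O_le N y ?_))
      rw [hy]
      exact inv_mem_O z fun hbz => hb (hxm (hz hbz))
    have h1 := add_mem (hh V hmV k fun e he => hV (hEO y k hk e he))
      (mul_mem (natCast_mem V d) (hV (hgood (p k) y hk)))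
    rwa [mul_sub, sub_add_sub_cancel] at h1
  choose a ha using hsol
  -- multiples form a datum
  have hg' : IsDatum (locRing N) fun y => (d : KK) * g y := fun y => (hg y).mono fun y' hy' => by
    show _ - _ ∈ _
    rw [← mul_sub]
    exact mul_mem (natCast_mem _ d) hy'
  have key : ∀ x, ∀ᶠ z in 𝓝 x, ∀ y, N.G y = z → a x - (d : KK) * g y ∈ locRing N y := by
    intro x
    have hc := N.G.isClosedMap _ (hg'.isOpen_good (openMem_locRing N) (a x)).isClosed_compl
    have hx : x ∉ N.G '' {y | a x - (d : KK) * g y ∈ locRing N y}ᶜ := by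
      rintro ⟨y, hy, rfl⟩
      exact hy (ha _ _ le_rfl y rfl)
    filter_upwards [hc.isOpen_compl.mem_nhds hx] with z hz y hy
    by_contra hn
    exact hz ⟨y, hn, hy⟩
  obtain ⟨b, hb⟩ := solOn_affine (X := Spec R) (isAffineOpen_top (Spec R)) a fun x => (key x).mono fun z hz => by
    letI : Algebra R ((Spec R).presheaf.stalk z) := StructureSheaf.stalkAlgebra R z
    haveI : IsLocalization.AtPrime ((Spec R).presheaf.stalk z) z.asIdeal :=
      StructureSheaf.IsLocalization.to_stalk R z
    haveI : IsIntegrallyClosed ((Spec R).presheaf.stalk z) :=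
      isIntegrallyClosed_of_isLocalization _ z.asIdeal.primeCompl z.asIdeal.primeCompl_le_nonZeroDivisors
    refine mem_O_of_forall N z _ fun y hy => ?_
    have h1 := sub_mem (hz y hy) (ha z z le_rfl y hy)
    rwa [sub_sub_sub_cancel_right] at h1
  refine ⟨b, fun y => ?_⟩
  have h1 := add_mem (O_le N y (hb (N.G y) trivial)) (ha _ _ le_rfl y rfl)
  rwa [sub_add_sub_cancel] at h1

/-- Solvable multiples kill the first cohomology of a normal proper modification. -/
theorem nsmul_eq_zero_model [IsIntegrallyClosed R] (N : Model (Spec R)) [IsProper N.G]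
    (hNn : ∀ y : N.Z, IsIntegrallyClosed (N.Z.presheaf.stalk y)) (d : ℕ)
    (hloc : ∀ m : Ideal R, ∀ [m.IsMaximal], SolMul (loc KK m).toSubring d)
    (x : Coh.HH N.Z (Coh.structureModule N.Z) 1) : d • x = 0 := by
  let e : (Spec R).functionField ≃+* N.Z.functionField := (asIso N.ψ).commRingCatIsoToRingEquiv
  refine nsmul_eq_zero_of_sol d (fun g hg => ?_) x
  obtain ⟨h, hh⟩ := exists_value_model N hNn d hloc (fun y => e.symm (g y)) fun y => (hg y).mono fun y' hy' => by
    show _ - _ ∈ _
    rw [mem_locRing_iff, ← map_sub]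
    show e (e.symm _) ∈ _
    rw [e.apply_symm_apply]
    exact hy'
  refine ⟨e h, fun y => ?_⟩
  have h1 := (mem_locRing_iff N y _).1 (hh y)
  change e _ ∈ _ at h1
  rwa [map_sub, map_mul, map_natCast, e.apply_symm_apply] at h1

end Groth.Agent.TraceRat
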